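import Groth.Agent.SubmDesc.Basic
import Groth.Prelude.Def_Desc

/-!
# Fullness of descent data on etale schemes for submersive covers
-/

set_option autoImplicit false
set_option linter.style.haveILetI false
set_option backward.isDefEq.respectTransparency false
set_option backward.isDefEq.respectTransparency.types false

noncomputable section

open AlgebraicGeometry CategoryTheory CategoryTheory.Limits
open Groth.Agent.SubmDesc (exists_field_point comp_app section_ext)

namespace Groth.Agent.DescEtale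

universe u

/-- sections of étale morphisms descend along surjections with submersive base change -/
theorem existsUnique_section {X' X E : Scheme.{u}} {π : X' ⟶ X} [Surjective π]
    (e : E ⟶ X) [Etale e] (hq : Topology.IsQuotientMap (pullback.fst e π)) (t : X' ⟶ E) (ht : t ≫ e = π)
    (hc : ∀ {T : Scheme.{u}} (a b : T ⟶ X'), a ≫ π = b ≫ π → a ≫ t = b ≫ t) :
    ∃! s : X ⟶ E, s ≫ e = 𝟙 X ∧ π ≫ s = t := by
  let pr := pullback.fst e π
  let σ : X' ⟶ pullback e π := pullback.lift t (𝟙 _) (by rw [ht, Category.id_comp])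
  have hσ₁ : σ ≫ pr = t := pullback.lift_fst _ _ _
  have hσ₂ : σ ≫ pullback.snd e π = 𝟙 _ := pullback.lift_snd _ _ _
  haveI : IsOpenImmersion σ := by
    have : Etale (σ ≫ pullback.snd e π) := by rw [hσ₂]; infer_instance
    have : Etale σ := Etale.of_comp σ (pullback.snd e π)
    have : IsSplitMono σ := IsSplitMono.mk' ⟨_, hσ₂⟩
    exact IsOpenImmersion.of_flat_of_mono σ
  -- field valued test: a point of `E` met by `t` and any point over it
  have key : ∀ {K : Type u} [Field K] (a' b' : Spec (CommRingCat.of K) ⟶ pullback e π),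
      a' ≫ pr = b' ≫ pr → a' (IsLocalRing.closedPoint K) ∈ Set.range σ →
      (b' (IsLocalRing.closedPoint K) ∈ Set.range σ ∧ a' ≫ pr = (b' ≫ pullback.snd e π) ≫ t) := by
    intro K _ a' b' hab ha
    obtain ⟨a, ha'⟩ : ∃ a, a ≫ σ = a' := ⟨IsOpenImmersion.lift σ a' (by
      rintro _ ⟨x, rfl⟩
      exact Subsingleton.elim (α := PrimeSpectrum K) x (IsLocalRing.closedPoint K) ▸ ha),
      IsOpenImmersion.lift_fac _ _ _⟩
    have h1 : a' ≫ pr = a ≫ t := by rw [← ha', Category.assoc, hσ₁]
    have h2 : a ≫ t = (b' ≫ pullback.snd e π) ≫ t := hc _ _ (by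
      rw [Category.assoc, ← pullback.condition, ← reassoc_of% hab, reassoc_of% h1, ht])
    refine ⟨⟨(b' ≫ pullback.snd e π) (IsLocalRing.closedPoint K), ?_⟩, h1.trans h2⟩
    have : (b' ≫ pullback.snd e π) ≫ σ = b' := pullback.hom_ext
      (by rw [Category.assoc, hσ₁]; exact (h1.trans h2).symm.trans hab)
      (by rw [Category.assoc, hσ₂, Category.comp_id])
    exact congr($this (IsLocalRing.closedPoint K))
  have hsat : pr ⁻¹' (pr '' Set.range σ) = Set.range σ := by
    refine Set.Subset.antisymm (fun p' hp' => ?_) (Set.subset_preimage_image _ _)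
    obtain ⟨p, hp, hpp⟩ := hp'
    obtain ⟨w, hw₁, hw₂⟩ := Scheme.Pullback.exists_preimage_pullback (f := pr) (g := pr) p p' hpp
    obtain ⟨K, _, j, hj⟩ := exists_field_point w
    obtain ⟨hb, -⟩ := key (j ≫ pullback.fst pr pr) (j ≫ pullback.snd pr pr)
      (by rw [Category.assoc, Category.assoc, pullback.condition])
      ((((comp_app j _ _).trans (congrArg _ (hj _))).trans hw₁).symm ▸ hp :)
    exact (((comp_app j _ _).trans (congrArg _ (hj _))).trans hw₂) ▸ hb
  let W : E.Opens := ⟨pr '' Set.range σ, by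
    rw [← hq.isOpen_preimage, hsat]
    exact σ.isOpenEmbedding.isOpen_range⟩
  let e' := W.ι ≫ e
  let t' : X' ⟶ W.toScheme := IsOpenImmersion.lift W.ι t (by
    rw [Scheme.Opens.range_ι]
    rintro _ ⟨x, rfl⟩
    exact ⟨σ x, ⟨x, rfl⟩, congr($hσ₁ x)⟩)
  have ht' : t' ≫ W.ι = t := IsOpenImmersion.lift_fac _ _ _
  have hte : t' ≫ e' = π := by rw [← Category.assoc, ht', ht]
  haveI : Surjective e' := by
    haveI : Surjective (t' ≫ e') := hte ▸ inferInstance
    exact Surjective.of_comp t' e'
  haveI : UniversallyInjective e' := (UniversallyInjective.iff_diagonal e').mpr ⟨fun w => by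
    obtain ⟨x', hx'⟩ := π.surjective ((pullback.fst e' e' ≫ e') w)
    obtain ⟨w', hw', -⟩ := Scheme.Pullback.exists_preimage_pullback (f := pullback.fst e' e' ≫ e') (g := π)
      w x' hx'.symm
    obtain ⟨K, _, j, hj⟩ := exists_field_point w'
    let c := j ≫ pullback.fst (pullback.fst e' e' ≫ e') π
    let x := j ≫ pullback.snd (pullback.fst e' e' ≫ e') π
    have hcx : c ≫ pullback.fst e' e' ≫ e' = x ≫ π := by
      exact (Category.assoc _ _ _).trans ((congrArg (j ≫ ·) pullback.condition).trans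
        (Category.assoc _ _ _).symm)
    have hpt : ∀ r : pullback e' e' ⟶ W.toScheme, r ≫ e' = pullback.fst e' e' ≫ e' →
        c ≫ r ≫ W.ι = x ≫ t := fun r hr => by
      have hh : (c ≫ r ≫ W.ι) ≫ e = x ≫ π := by
        rw [Category.assoc, Category.assoc, ← hcx]; exact congrArg (c ≫ ·) hr
      let P' : Spec (CommRingCat.of K) ⟶ pullback e π := pullback.lift (c ≫ r ≫ W.ι) x hh
      have hP₁ : P' ≫ pr = c ≫ r ≫ W.ι := pullback.lift_fst _ _ hh
      have hP₂ : P' ≫ pullback.snd e π = x := pullback.lift_snd _ _ hh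
      obtain ⟨p, hp, hpe⟩ : (c ≫ r ≫ W.ι) (IsLocalRing.closedPoint K) ∈ pr '' Set.range σ :=
        ((c ≫ r) (IsLocalRing.closedPoint K)).2
      have hP' : P' (IsLocalRing.closedPoint K) ∈ Set.range σ := by
        rw [← hsat]
        refine ⟨p, hp, hpe.trans ?_⟩
        rw [← hP₁]
        exact comp_app _ _ _
      exact hP₁.symm.trans ((key P' P' rfl hP').2.trans (by rw [hP₂]))
    have h12 : c ≫ pullback.fst e' e' = c ≫ pullback.snd e' e' := by
      refine (cancel_mono W.ι).mp ((Category.assoc _ _ _).trans ((hpt _ rfl).trans ?_))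
      exact (hpt _ pullback.condition.symm).symm.trans (Category.assoc _ _ _).symm
    have hdiag : (c ≫ pullback.fst e' e') ≫ pullback.diagonal e' = c := by
      apply pullback.hom_ext
      · rw [Category.assoc, pullback.diagonal_fst, Category.comp_id]
      · rw [Category.assoc, pullback.diagonal_snd, Category.comp_id, h12]
    refine ⟨(c ≫ pullback.fst e' e') (IsLocalRing.closedPoint K), ?_⟩
    refine ((comp_app _ _ _).symm.trans (congr($hdiag (IsLocalRing.closedPoint K)))).trans ?_
    exact (comp_app _ _ _).trans ((congrArg _ (hj _)).trans hw')⟩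
  haveI := TopInvHomeo.mono_of_universallyInjective e'
  haveI : IsOpenImmersion e' := IsOpenImmersion.of_flat_of_mono e'
  haveI : IsIso e' := (isIso_iff_isOpenImmersion_and_surjective e').mpr ⟨inferInstance, inferInstance⟩
  have hs : π ≫ inv e' = t' := by rw [IsIso.comp_inv_eq, hte]
  refine ⟨inv e' ≫ W.ι, ⟨by rw [Category.assoc]; exact IsIso.inv_hom_id e', by rw [reassoc_of% hs, ht']⟩, ?_⟩
  rintro s ⟨h₁, h₂⟩
  refine section_ext π e h₁ (by rw [Category.assoc]; exact IsIso.inv_hom_id e') ?_
  rw [h₂, reassoc_of% hs, ht']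


/-- morphisms between étale schemes descend -/
theorem toDD_map_surjective {X S : Scheme.{u}} (p : X ⟶ S)
    (hp : ∀ U : Over S, Etale U.hom → Topology.IsQuotientMap (pullback.snd p U.hom).base) (U₁ U₂ : Over S)
    [Etale U₁.hom] [Etale U₂.hom] : Function.Surjective ((Desc.toDD p).map : (U₁ ⟶ U₂) → _) := by
  intro a
  let π := pullback.snd p U₁.hom
  haveI : Surjective π := ⟨(hp U₁ inferInstance).surjective⟩
  have ha : a.hom.left ≫ pullback.fst p U₂.hom = pullback.fst p U₁.hom := Over.w a.hom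
  let t₀ := a.hom.left ≫ pullback.snd p U₂.hom
  have ht₀ : t₀ ≫ U₂.hom = π ≫ U₁.hom := by
    rw [Category.assoc, ← pullback.condition, reassoc_of% ha, pullback.condition]
  let e := pullback.fst U₁.hom U₂.hom
  let t : pullback p U₁.hom ⟶ pullback U₁.hom U₂.hom := pullback.lift π t₀ ht₀.symm
  have hc : ∀ {T : Scheme.{u}} (x y : T ⟶ pullback p U₁.hom), x ≫ π = y ≫ π → x ≫ t = y ≫ t := by
    intro T x y hxy
    have hS : (x ≫ pullback.fst p U₁.hom) ≫ p = (y ≫ pullback.fst p U₁.hom) ≫ p := by
      rw [Category.assoc, Category.assoc, pullback.condition, reassoc_of% hxy]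
    have key := a.comm (x ≫ pullback.fst p U₁.hom) (y ≫ pullback.fst p U₁.hom) hS ⟨x, rfl⟩
      ⟨x ≫ a.hom.left, by rw [Category.assoc]; exact congrArg (x ≫ ·) ha⟩ rfl
    have e1 : (((Desc.toDD p).obj U₁).φ (T := T) (x ≫ pullback.fst p U₁.hom)
        (y ≫ pullback.fst p U₁.hom) hS ⟨x, rfl⟩).1 = y := by
      apply pullback.hom_ext
      · simp [Desc.toDD, Desc.canonicalDD]
      · simpa [Desc.toDD, Desc.canonicalDD] using hxy
    rw [e1] at key
    have key' := congrArg (· ≫ pullback.snd p U₂.hom) key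
    apply pullback.hom_ext
    · simpa [t] using hxy
    · simpa [t, t₀, Desc.toDD, Desc.canonicalDD] using key'
  have hq : Topology.IsQuotientMap (pullback.fst e π) := by
    have h1 := (IsPullback.of_hasPullback e π).paste_vert (IsPullback.of_hasPullback p U₁.hom).flip
    let h2 := (IsPullback.of_hasPullback p (e ≫ U₁.hom)).flip
    have := hp (Over.mk (e ≫ U₁.hom)) (inferInstanceAs (Etale (e ≫ U₁.hom)))
    have h3 : pullback.fst e π = (h1.isoIsPullback _ _ h2).hom ≫ pullback.snd p (e ≫ U₁.hom) := by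
      rw [IsPullback.isoIsPullback_hom_fst]
    rw [h3]
    exact this.comp (h1.isoIsPullback _ _ h2).hom.homeomorph.isQuotientMap
  obtain ⟨s, ⟨hs, hs'⟩, -⟩ := existsUnique_section e hq t (pullback.lift_fst _ _ _) hc
  have hover : (s ≫ pullback.snd U₁.hom U₂.hom) ≫ U₂.hom = U₁.hom := by
    rw [Category.assoc, ← pullback.condition, reassoc_of% hs]
  refine ⟨Over.homMk (s ≫ pullback.snd U₁.hom U₂.hom) hover, ?_⟩
  apply Desc.SchDD.hom_ext
  apply Over.OverMorphism.ext
  refine pullback.hom_ext ?_ ?_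
  · exact (pullback.lift_fst _ _ _).trans ((Category.comp_id _).trans ha.symm)
  · refine (pullback.lift_snd _ _ _).trans ?_
    show π ≫ s ≫ pullback.snd U₁.hom U₂.hom = t₀
    rw [reassoc_of% hs']
    exact pullback.lift_snd _ _ _

end Groth.Agent.DescEtale
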